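import Mathlib

universe u

open TensorProduct

namespace Groth.Agent.TraceEtale

theorem bijective_traceForm_iff {A B : Type u} [CommRing A] [CommRing B] [Algebra A B]
    {ι : Type*} [Fintype ι] [DecidableEq ι] (b : Module.Basis ι A B) :
    Function.Bijective (Algebra.traceForm A B) ↔ IsUnit (Algebra.discr A b) := by
  let f : B →ₗ[A] B := b.toDualEquiv.symm.toLinearMap ∘ₗ (Algebra.traceForm A B)
  have h1 : Function.Bijective (Algebra.traceForm A B) ↔ Function.Bijective f := by
    simp [f]
  have h2 : LinearMap.toMatrix b b f = Algebra.traceMatrix A b := by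
    ext i j
    rw [LinearMap.toMatrix_apply, Algebra.traceMatrix_apply]
    rw [← b.toDual_apply_left, ← b.toDualEquiv_apply]
    simp [f, mul_comm]
  rw [h1, Algebra.discr_def, ← h2]
  constructor
  · intro h
    rw [LinearMap.det_toMatrix]
    exact LinearMap.isUnit_det f ((Module.End.isUnit_iff f).2 h)
  · intro h
    rw [LinearMap.det_toMatrix] at h
    exact (LinearEquiv.ofIsUnitDet (f := f) (v := b) (v' := b)
      (by rwa [LinearMap.det_toMatrix])).bijective

theorem discr_baseChange {A B : Type u} [CommRing A] [CommRing B] [Algebra A B]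
    (C : Type u) [CommRing C] [Algebra A C] [Module.Free A B] [Module.Finite A B]
    {ι : Type*} [Fintype ι] [DecidableEq ι] (b : Module.Basis ι A B) :
    Algebra.discr C (b.baseChange C) = algebraMap A C (Algebra.discr A b) := by
  rw [Algebra.discr_def, Algebra.discr_def, RingHom.map_det]
  congr 1
  ext i j
  rw [RingHom.mapMatrix_apply, Matrix.map_apply, Algebra.traceMatrix_apply,
    Algebra.traceMatrix_apply, Algebra.traceForm_apply, Algebra.traceForm_apply,
    Module.Basis.baseChange_apply, Module.Basis.baseChange_apply,
    Algebra.TensorProduct.tmul_mul_tmul, one_mul, Algebra.trace_apply, Algebra.trace_apply,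
    ← LinearMap.trace_baseChange]
  congr 1
  ext x
  simp

theorem formallyUnramified_iff_bijective_traceForm_of_isAlgClosed {K C : Type u} [Field K]
    [IsAlgClosed K] [CommRing C] [Algebra K C] [Module.Finite K C] :
    Algebra.FormallyUnramified K C ↔ Function.Bijective (Algebra.traceForm K C) := by
  classical
  constructor
  · intro h
    have : Algebra.FormallyEtale K C := Algebra.FormallyEtale.of_formallyUnramified_of_field K C
    let e := Algebra.FormallyEtale.equivPiOfIsSepClosed K C
    have : IsArtinianRing C := isArtinian_of_tower K inferInstance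
    have : Finite (PrimeSpectrum C) := inferInstance
    let _ := Fintype.ofFinite (PrimeSpectrum C)
    let b := (Pi.basisFun K (PrimeSpectrum C)).map e.symm.toLinearEquiv
    rw [bijective_traceForm_iff b]
    have hb : (b : PrimeSpectrum C → C) = e.symm ∘ (Pi.basisFun K (PrimeSpectrum C)) := rfl
    rw [hb, ← Algebra.discr_eq_discr_of_algEquiv, Algebra.discr_def]
    convert isUnit_one
    rw [← Matrix.det_one (n := PrimeSpectrum C) (R := K)]
    congr 1
    ext i j
    rw [Algebra.traceMatrix_apply, Algebra.traceForm_apply,
      Algebra.trace_eq_matrix_trace (Pi.basisFun K (PrimeSpectrum C)), Matrix.trace,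
      Finset.sum_congr rfl (g := fun k => (Pi.basisFun K _ i * Pi.basisFun K _ j : _ → K) k)
        (fun k _ => by simp [Algebra.leftMulMatrix_apply, Pi.single_apply])]
    simp [Pi.single_apply, Matrix.one_apply, eq_comm]
  · intro h
    have hred : IsReduced C := ⟨fun x hx => h.1 (by
      ext y
      simpa using (Algebra.isNilpotent_trace_of_isNilpotent (R := K)
        ((Commute.all x y).isNilpotent_mul_right hx)).eq_zero)⟩
    have : IsArtinianRing C := isArtinian_of_tower K inferInstance
    have : Algebra.FormallyEtale K C := by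
      let _ (m : MaximalSpectrum C) : Field (C ⧸ m.asIdeal) := Ideal.Quotient.field _
      have hm : ∀ m : MaximalSpectrum C, Algebra.FormallyEtale K (C ⧸ m.asIdeal) := fun m => by
        rw [Algebra.FormallyEtale.iff_isSeparable]
        infer_instance
      exact .of_equiv ((IsArtinianRing.equivPi C).restrictScalars K).symm
    infer_instance

attribute [local instance] Algebra.TensorProduct.rightAlgebra in
theorem etale_iff_bijective_traceForm (A B : Type u) [CommRing A] [CommRing B] [Algebra A B]
    [Module.Finite A B] [Module.Free A B] :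
    Algebra.Etale A B ↔ Function.Bijective (Algebra.traceForm A B) := by
  classical
  let b := Module.Free.chooseBasis A B
  have : Module.FinitePresentation A B := Module.finitePresentation_of_projective A B
  have hC : ∀ (K : Type u) [Field K] [IsAlgClosed K] [Algebra A K],
      Algebra.FormallyUnramified K (K ⊗[A] B) ↔ algebraMap A K (Algebra.discr A b) ≠ 0 := by
    intro K _ _ _
    rw [formallyUnramified_iff_bijective_traceForm_of_isAlgClosed,
      bijective_traceForm_iff (b.baseChange K), discr_baseChange, isUnit_iff_ne_zero]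
  rw [bijective_traceForm_iff b]
  constructor
  · intro _
    by_contra hu
    obtain ⟨m, hm, hdm⟩ := exists_max_ideal_of_mem_nonunits hu
    let _ := Ideal.Quotient.field m
    refine (hC (AlgebraicClosure (A ⧸ m))).1 inferInstance ?_
    rw [IsScalarTower.algebraMap_apply A (A ⧸ m), Ideal.Quotient.algebraMap_eq,
      Ideal.Quotient.eq_zero_iff_mem.2 hdm, map_zero]
  · intro hu
    have hsub : Subsingleton Ω[B⁄A] := by
      have : Module.Finite A Ω[B⁄A] := Module.Finite.trans B _
      by_contra hne
      have htop : Module.annihilator A Ω[B⁄A] ≠ ⊤ := fun h =>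
        hne (Module.annihilator_eq_top_iff.1 h)
      obtain ⟨m, hm, hle⟩ := Ideal.exists_le_maximal _ htop
      let _ := Ideal.Quotient.field m
      let K := AlgebraicClosure (A ⧸ m)
      have hK : Algebra.FormallyUnramified K (K ⊗[A] B) := by
        rw [hC K]
        exact (hu.map _).ne_zero
      have h0 : Subsingleton (K ⊗[A] Ω[B⁄A]) :=
        (KaehlerDifferential.tensorKaehlerEquivBase A K B (K ⊗[A] B)).toEquiv.subsingleton
      have h1 : Subsingleton (K ⊗[A ⧸ m] ((A ⧸ m) ⊗[A] Ω[B⁄A])) :=
        (TensorProduct.AlgebraTensorModule.cancelBaseChange A (A ⧸ m) (A ⧸ m) K Ω[B⁄A]).toEquiv.subsingleton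
      have h2 : Subsingleton ((A ⧸ m) ⊗[A] Ω[B⁄A]) :=
        Module.FaithfullyFlat.lTensor_reflects_triviality (A ⧸ m) K _
      have h3 : Subsingleton (Ω[B⁄A] ⧸ m • (⊤ : Submodule A Ω[B⁄A])) :=
        (TensorProduct.quotTensorEquivQuotSMul _ m).symm.toEquiv.subsingleton
      rw [Submodule.Quotient.subsingleton_iff] at h3
      obtain ⟨r, hr1, hr0⟩ := Submodule.exists_sub_one_mem_and_smul_eq_zero_of_fg_of_le_smul m
        (⊤ : Submodule A Ω[B⁄A]) Module.Finite.fg_top h3.ge
      refine hm.ne_top ((Ideal.eq_top_iff_one _).2 ?_)
      simpa using m.sub_mem (hle (Module.mem_annihilator.2 fun x => hr0 x trivial)) hr1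
    have : Algebra.FormallyUnramified A B := ⟨hsub⟩
    exact Algebra.Etale.of_formallyUnramified_of_flat

end Groth.Agent.TraceEtale
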